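import Cfsg.Agent.Lib.H04.Tf.AutB
import Cfsg.Agent.Lib.H04.Chev.Tab.F4_all3
import Cfsg.Agent.Lib.H04.Chev.Tab.F4_all2

/-! Generated tables of the exceptional graph map of type F4. -/

set_option autoImplicit false
set_option maxRecDepth 100000
set_option Elab.async false

open Cfsg.Lie Cfsg.Agent.H04.Chev
open Cfsg.Agent.H04.Chev.TF4

namespace Cfsg.Agent.H04.Tf.TF4

/-- the graph map -/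
noncomputable def X : XT := ⟨NT.nd (NT.nd (NT.nd (NT.nd (NT.nd (NT.nd (NT.lf 0x3) (NT.lf 0x25)) (NT.nd (NT.lf 0xc) (NT.lf 0x33))) (NT.nd (NT.nd (NT.lf 0x2) (NT.lf 0x2e)) (NT.nd (NT.lf 0x21) (NT.lf 0x0)))) (NT.nd (NT.nd (NT.nd (NT.lf 0x9) (NT.lf 0x2a)) (NT.nd (NT.lf 0x16) (NT.lf 0x0))) (NT.nd (NT.nd (NT.lf 0x10) (NT.lf 0x2f)) (NT.nd (NT.lf 0x1e) (NT.lf 0x0))))) (NT.nd (NT.nd (NT.nd (NT.nd (NT.lf 0x8) (NT.lf 0x1a)) (NT.nd (NT.lf 0x6) (NT.lf 0x31))) (NT.nd (NT.nd (NT.lf 0xf) (NT.lf 0x24)) (NT.nd (NT.lf 0x22) (NT.lf 0x0)))) (NT.nd (NT.nd (NT.nd (NT.lf 0x12) (NT.lf 0x2b)) (NT.nd (NT.lf 0x14) (NT.lf 0x0))) (NT.nd (NT.nd (NT.lf 0x17) (NT.lf 0x28)) (NT.nd (NT.lf 0x1c) (NT.lf 0x0)))))) (NT.nd (NT.nd (NT.nd (NT.nd (NT.nd (NT.lf 0x7) (NT.lf 0x18))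 (NT.nd (NT.lf 0x13) (NT.lf 0x32))) (NT.nd (NT.nd (NT.lf 0x4) (NT.lf 0x1d)) (NT.nd (NT.lf 0x1b) (NT.lf 0x0)))) (NT.nd (NT.nd (NT.nd (NT.lf 0xb) (NT.lf 0x20)) (NT.nd (NT.lf 0xd) (NT.lf 0x0))) (NT.nd (NT.nd (NT.lf 0x15) (NT.lf 0x27)) (NT.nd (NT.lf 0x29) (NT.lf 0x0))))) (NT.nd (NT.nd (NT.nd (NT.nd (NT.lf 0x0) (NT.lf 0x1f)) (NT.nd (NT.lf 0x11) (NT.lf 0x30))) (NT.nd (NT.nd (NT.lf 0x5) (NT.lf 0x26)) (NT.nd (NT.lf 0x19) (NT.lf 0x0)))) (NT.nd (NT.nd (NT.nd (NT.lf 0x1) (NT.lf 0x2d)) (NT.nd (NT.lf 0xe) (NT.lf 0x0))) (NT.nd (NT.nd (NT.lf 0xa) (NT.lf 0x2c)) (NT.nd (NT.lf 0x23) (NT.lf 0x0)))))), NT.nd (NT.nd (NT.nd (NT.nd (NT.nd (NT.nd (NT.lf 0x1) (NT.lf 0x1)) (NT.nd (NT.lf 0x1) (NT.lf 0x1))) (NT.nd (NT.nd (NT.lf 0x2) (NT.lf 0x2)) (NT.nd (NT.lf 0x1)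 (NT.lf 0x0)))) (NT.nd (NT.nd (NT.nd (NT.lf 0x1) (NT.lf 0x2)) (NT.nd (NT.lf 0x2) (NT.lf 0x0))) (NT.nd (NT.nd (NT.lf 0x2) (NT.lf 0x2)) (NT.nd (NT.lf 0x2) (NT.lf 0x0))))) (NT.nd (NT.nd (NT.nd (NT.nd (NT.lf 0x1) (NT.lf 0x2)) (NT.nd (NT.lf 0x2) (NT.lf 0x1))) (NT.nd (NT.nd (NT.lf 0x2) (NT.lf 0x1)) (NT.nd (NT.lf 0x1) (NT.lf 0x0)))) (NT.nd (NT.nd (NT.nd (NT.lf 0x1) (NT.lf 0x2)) (NT.nd (NT.lf 0x1) (NT.lf 0x0))) (NT.nd (NT.nd (NT.lf 0x2) (NT.lf 0x1)) (NT.nd (NT.lf 0x1) (NT.lf 0x0)))))) (NT.nd (NT.nd (NT.nd (NT.nd (NT.nd (NT.lf 0x1) (NT.lf 0x2)) (NT.nd (NT.lf 0x1) (NT.lf 0x1))) (NT.nd (NT.nd (NT.lf 0x2) (NT.lf 0x1)) (NT.nd (NT.lf 0x1) (NT.lf 0x0)))) (NT.nd (NT.nd (NT.nd (NT.lf 0x1) (NT.lf 0x2)) (NT.nd (NT.lf 0x1) (NT.lf 0x0))) (NT.nd (NT.nd (NT.lf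 0x2) (NT.lf 0x1)) (NT.nd (NT.lf 0x2) (NT.lf 0x0))))) (NT.nd (NT.nd (NT.nd (NT.nd (NT.lf 0x2) (NT.lf 0x2)) (NT.nd (NT.lf 0x2) (NT.lf 0x1))) (NT.nd (NT.nd (NT.lf 0x2) (NT.lf 0x1)) (NT.nd (NT.lf 0x2) (NT.lf 0x0)))) (NT.nd (NT.nd (NT.nd (NT.lf 0x2) (NT.lf 0x2)) (NT.nd (NT.lf 0x1) (NT.lf 0x0))) (NT.nd (NT.nd (NT.lf 0x1) (NT.lf 0x1)) (NT.nd (NT.lf 0x1) (NT.lf 0x0)))))), NT.nd (NT.nd (NT.nd (NT.nd (NT.nd (NT.nd (NT.lf 0x0) (NT.lf 0x0)) (NT.nd (NT.lf 0x0) (NT.lf 0x1))) (NT.nd (NT.nd (NT.lf 0x1) (NT.lf 0x1)) (NT.nd (NT.lf 0x0) (NT.lf 0x0)))) (NT.nd (NT.nd (NT.nd (NT.lf 0x0) (NT.lf 0x1)) (NT.nd (NT.lf 0x1) (NT.lf 0x0))) (NT.nd (NT.nd (NT.lf 0x1) (NT.lf 0x1)) (NT.nd (NT.lf 0x1) (NT.lf 0x0))))) (NT.nd (NT.nd (NT.nd (NT.nd (NT.lf 0x0) (NT.lf 0x1))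 (NT.nd (NT.lf 0x1) (NT.lf 0x0))) (NT.nd (NT.nd (NT.lf 0x1) (NT.lf 0x0)) (NT.nd (NT.lf 0x0) (NT.lf 0x0)))) (NT.nd (NT.nd (NT.nd (NT.lf 0x0) (NT.lf 0x1)) (NT.nd (NT.lf 0x0) (NT.lf 0x0))) (NT.nd (NT.nd (NT.lf 0x1) (NT.lf 0x0)) (NT.nd (NT.lf 0x0) (NT.lf 0x0)))))) (NT.nd (NT.nd (NT.nd (NT.nd (NT.nd (NT.lf 0x0) (NT.lf 0x1)) (NT.nd (NT.lf 0x0) (NT.lf 0x1))) (NT.nd (NT.nd (NT.lf 0x1) (NT.lf 0x0)) (NT.nd (NT.lf 0x0) (NT.lf 0x0)))) (NT.nd (NT.nd (NT.nd (NT.lf 0x0) (NT.lf 0x1)) (NT.nd (NT.lf 0x0) (NT.lf 0x0))) (NT.nd (NT.nd (NT.lf 0x1) (NT.lf 0x0)) (NT.nd (NT.lf 0x1) (NT.lf 0x0))))) (NT.nd (NT.nd (NT.nd (NT.nd (NT.lf 0x1) (NT.lf 0x1)) (NT.nd (NT.lf 0x1) (NT.lf 0x0))) (NT.nd (NT.nd (NT.lf 0x1) (NT.lf 0x0)) (NT.nd (NT.lf 0x1) (NT.lf 0x0)))) (NT.nd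 (NT.nd (NT.nd (NT.lf 0x1) (NT.lf 0x1)) (NT.nd (NT.lf 0x0) (NT.lf 0x0))) (NT.nd (NT.nd (NT.lf 0x0) (NT.lf 0x0)) (NT.nd (NT.lf 0x0) (NT.lf 0x0))))))⟩

theorem xr0 : segAll 0 12 (xRow chevF4 T X) = true := by decide +kernel
theorem xr12 : segAll 12 12 (xRow chevF4 T X) = true := by decide +kernel
theorem xr24 : segAll 24 12 (xRow chevF4 T X) = true := by decide +kernel
theorem xr36 : segAll 36 12 (xRow chevF4 T X) = true := by decide +kernel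

theorem xOK : XOK chevF4 T X 44 47 := by
  refine XOK_of ?_ (by decide +kernel) (by decide +kernel) (by decide +kernel) (by decide +kernel) (by decide +kernel) (by decide +kernel) (by decide +kernel) (by decide +kernel) (by decide +kernel) (by decide +kernel)
  intro r hr
  have hn : chevF4.nroots = 48 := rfl
  rw [hn] at hr
  have hc : (0 ≤ r ∧ r < 0 + 12) ∨ (12 ≤ r ∧ r < 12 + 12) ∨ (24 ≤ r ∧ r < 24 + 12) ∨ (36 ≤ r ∧ r < 36 + 12) := by omega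
  rcases hc with ⟨h1, h2⟩ | ⟨h1, h2⟩ | ⟨h1, h2⟩ | ⟨h1, h2⟩
  · exact segAll_spec xr0 r h1 h2
  · exact segAll_spec xr12 r h1 h2
  · exact segAll_spec xr24 r h1 h2
  · exact segAll_spec xr36 r h1 h2

end Cfsg.Agent.H04.Tf.TF4
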